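import Cfsg.Agent.Spor.Chk

set_option autoImplicit false
set_option maxRecDepth 100000000
set_option Elab.async false
noncomputable section

namespace Cfsg.Agent.Spor.U43aA1

def n0 : Net := Net.nil

def n1 : Net := Net.nil

def n2 : Net := Net.nil

def n3 : Net := Net.nil

def n4 : Net := Net.nil

def n5 : Net := Net.nil

def ip1 : List Nat := []
def l1 : Let := ⟨0, false, 0x1, 0x0, [0x0]⟩

def ip2 : List Nat := []
def l2 : Let := ⟨1, false, 0x1, 0x0, [0x0]⟩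

def ip3 : List Nat := []
def l3 : Let := ⟨2, false, 0x1, 0x0, [0x0]⟩

def ip4 : List Nat := []
def l4 : Let := ⟨3, false, 0x1, 0x0, [0x0]⟩

def ip5 : List Nat := []
def l5 : Let := ⟨4, false, 0x1, 0x0, [0x0]⟩

def ip6 : List Nat := []
def l6 : Let := ⟨5, false, 0x1, 0x0, [0x0]⟩

def F : Nat := nat_lit 0x60000000000000001100011020001100000050000000000000001000010020001000000040000000000000000f0000f030000f00000030000000000000000d0000006000000000d060000d0000d000000e0000e020000e0000d020000d00000020000000000000000800000060000000008060000800008000000b0000a030000c0000b010000b0000801000080000001000000000000000010000200000050000305000060000205000010000100000070000200000040000402000070000002000050001106000000001005000000000f04000000000e060000d0000d03000000000c05000090000b06000080000a0500008000090300008000080200000000070500002000060300002000050100002000040500001000030300001000020200001000010100000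

def rt0_12 : RTree := RTree.node 0x1020102 ⟨[1, 2, 1, 2], [], 7, true⟩ (RTree.node 0x404 ⟨[4, 4], [], 36, false⟩ (RTree.node 0x202 ⟨[2, 2], [], 36, false⟩ (RTree.node 0x101 ⟨[1, 1], [], 36, false⟩ (RTree.leaf) (RTree.leaf)) (RTree.node 0x303 ⟨[3, 3], [], 36, false⟩ (RTree.leaf) (RTree.leaf))) (RTree.node 0x606 ⟨[6, 6], [], 36, false⟩ (RTree.node 0x505 ⟨[5, 5], [], 36, false⟩ (RTree.leaf) (RTree.leaf)) (RTree.leaf))) (RTree.node 0x2030203 ⟨[2, 3, 2, 3], [], 26, false⟩ (RTree.node 0x2010201 ⟨[2, 1, 2, 1], [], 7, false⟩ (RTree.node 0x1060106 ⟨[1, 6, 1, 6], [], 25, false⟩ (RTree.leaf) (RTree.leaf)) (RTree.leaf)) (RTree.node 0x2060206 ⟨[2, 6, 2, 6], [], 29, false⟩ (RTree.node 0x2050205 ⟨[2, 5, 2, 5], [], 28, false⟩ (RTree.leaf) (RTree.leaf)) (RTree.leaf)))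
def rt13_24 : RTree := RTree.node 0x20602060206 ⟨[2, 6, 2, 6, 2, 6], [], 12, true⟩ (RTree.node 0x6020602 ⟨[6, 2, 6, 2], [], 29, true⟩ (RTree.node 0x5030503 ⟨[5, 3, 5, 3], [], 31, true⟩ (RTree.node 0x3050305 ⟨[3, 5, 3, 5], [], 31, false⟩ (RTree.leaf) (RTree.leaf)) (RTree.leaf)) (RTree.node 0x305030501 ⟨[3, 5, 3, 5, 1], [0], 6, true⟩ (RTree.node 0x6030603 ⟨[6, 3, 6, 3], [], 32, true⟩ (RTree.leaf) (RTree.leaf)) (RTree.leaf))) (RTree.node 0x50205020502 ⟨[5, 2, 5, 2, 5, 2], [], 9, false⟩ (RTree.node 0x40304030403 ⟨[4, 3, 4, 3, 4, 3], [], 1, false⟩ (RTree.node 0x30603060306 ⟨[3, 6, 3, 6, 3, 6], [], 15, true⟩ (RTree.leaf) (RTree.leaf)) (RTree.leaf)) (RTree.node 0x30503050601060106 ⟨[3, 5, 3, 5, 6, 1, 6, 1, 6], [8, 4], 16, true⟩ (RTree.node 0x60206020602 ⟨[6, 2, 6, 2, 6, 2], [], 12, false⟩ (RTree.leaf) (RTree.leaf)) (RTree.leaf)))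
def rt0_24 : RTree := RTree.node 0x3040304 ⟨[3, 4, 3, 4], [], 30, false⟩ (rt0_12) (rt13_24)
def RT : RTree := rt0_24

def NT : List Net := [n0, n1, n2, n3, n4, n5]
def LT : List Let := [⟨0, false, 0, 0, []⟩, l1, l2, l3, l4, l5, l6]
def T : Tab := ⟨NT, LT⟩
def EX : List (List Nat) := [[], [0], [2], [4], [6], [8], [10]]
def RL : List (List Nat) := [[8, 4, 8, 6, 4, 2, 4, 6, 4, 2], [6, 4, 6, 4, 6, 4], [6, 8, 4, 8, 6, 2, 4, 6, 4, 2], [8, 6, 2, 8, 2, 6, 4, 8, 4, 2], [6, 8, 2, 6, 8, 6, 2, 8, 6, 2], [8, 6, 4, 8, 6, 8, 2, 4, 6, 2, 8, 2, 4, 2], [8, 4, 8, 4, 0], [2, 0, 2, 0], [6, 0, 6, 0], [8, 2, 8, 2, 8, 2], [8, 0, 8, 0], [4, 0, 4, 0], [10, 2, 10, 2, 10, 2], [10, 8, 10, 8, 10, 8], [10, 6, 10, 6, 10, 6], [10, 4, 10, 4, 10, 4], [8, 4, 10, 0, 10, 0, 10, 8, 4], [4, 2, 4, 2, 4, 2, 4, 2], [0, 8, 6, 10, 2, 6, 10, 0, 10, 2, 6, 10, 2, 8], [2, 4, 2, 8, 6, 2, 10, 0, 6, 4, 10, 6, 4, 0, 10], [4, 6, 2, 8,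 4, 6, 10, 0, 8, 2, 10, 8, 2, 0, 10], [0, 2, 0, 2], [0, 4, 0, 4], [0, 6, 0, 6], [0, 8, 0, 8], [0, 10, 0, 10], [2, 4, 2, 4], [2, 6, 2, 6], [2, 8, 2, 8], [2, 10, 2, 10], [4, 6, 4, 6], [4, 8, 4, 8], [4, 10, 4, 10], [6, 8, 6, 8], [6, 10, 6, 10], [8, 10, 8, 10]]
def XL : List (List Nat) := []
def BW : List (List Nat) := []
def IV : Nat := 0x6050403020100
def L : List Nat := [1, 2, 3, 4, 5, 6]
def gs : List Nat := [1, 2, 3, 4, 5, 6]
def base : List Nat := []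

end Cfsg.Agent.Spor.U43aA1
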